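import Mathlib.LinearAlgebra.BilinearForm.Orthogonal
import Mathlib.LinearAlgebra.Dual.Lemmas
import Mathlib.GroupTheory.Sylow
import Mathlib.GroupTheory.PGroup
import Mathlib.Data.ZMod.Basic
import Mathlib.Tactic
import Mathlib.LinearAlgebra.Basis.VectorSpace
import Mathlib.LinearAlgebra.FreeModule.Finite.Matrix
import Mathlib.LinearAlgebra.Dimension.Free
import Mathlib.Algebra.Module.ZMod
import Mathlib.FieldTheory.Finiteness
import Cfsg.Prelude.Def_Classification2
import Cfsg.Prelude.Def_LieTypeChar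
import Cfsg.Agent.S0256
import Cfsg.Agent.Omega.TwoF.Rk
import Cfsg.Agent.Omega.Lie.HeisCover
import Cfsg.Agent.FastGrp
import Cfsg.Agent.Prune
set_option linter.all false

section
prune_inst 0x7f00000000000000000000000000000000000000000000000000000000000000000000000000000000000000000000000000000000000000000000000000000000000000000000000000000000000000003fffffffffffffffffffffffffffbeffbdffffffff

-- part: Omega/EH3/Cfg
section
set_option linter.all false
open scoped Cfsg.Agent.FastGrp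

/-!
# EH3, case [2d]: the abstract configuration (owner helper888)

`Cfg ρ b q a D X w` : the finite group `H` acts through `ρ` faithfully and irreducibly on the vector space `V` over
`ZMod 2` of order `2^(2w)`, `w ≥ 5`, with a nondegenerate quadratic form `q` (polar form `b`); `a ≠ 0` is singular,
`a ∈ D`, `D` totally singular of order `2^w`, `X ≤ H` is elementary abelian of order `2^(w-1)`, normal in the stabiliser
of `a`, `[D, X] ≤ ⟨a⟩`, `[a^⊥, X] ≤ D`, `X` induces on `D` all transvections with centre `a`,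
`x ↦ ρ x c + c + D` is injective for `b a c = 1` (`X_semi`) and the trilinear form is nondegenerate (`X_T`: no element
`≠ 1` of `X` is a Siegel element).
-/

set_option autoImplicit false

namespace Cfsg.Agent.Omega.EH3

theorem zmod_two (c : ZMod 2) : c = 0 ∨ c = 1 := by revert c; decide

theorem zmod_two_ne {c : ZMod 2} (h : c ≠ 0) : c = 1 := by revert c; decide

/-- the configuration -/
structure Cfg {H V : Type*} [Group H] [AddCommGroup V] [Module (ZMod 2) V]
    (ρ : H →* (V ≃ₗ[ZMod 2] V)) (b : LinearMap.BilinForm (ZMod 2) V) (q : V → ZMod 2)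
    (a : V) (D : Submodule (ZMod 2) V) (X : Subgroup H) (w : ℕ) : Prop where
  inj : Function.Injective ρ
  five : 5 ≤ w
  card_V : Nat.card V = 2 ^ (2 * w)
  b_self : ∀ v, b v v = 0
  nondeg : ∀ v, (∀ u, b v u = 0) → v = 0
  q_add : ∀ u v, q (u + v) = q u + q v + b u v
  q_inv : ∀ h v, q (ρ h v) = q v
  irr : ∀ W : Submodule (ZMod 2) V, (∀ h, ∀ v ∈ W, ρ h v ∈ W) → W = ⊥ ∨ W = ⊤
  a_ne : a ≠ 0
  a_mem : a ∈ D
  q_D : ∀ d ∈ D, q d = 0
  card_D : Nat.card D = 2 ^ w
  D_inv : ∀ h, ρ h a = a → ∀ d ∈ D, ρ h d ∈ D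
  X_sq : ∀ x ∈ X, x * x = 1
  X_norm : ∀ h, ρ h a = a → ∀ x ∈ X, h * x * h⁻¹ ∈ X
  card_X : Nat.card X = 2 ^ (w - 1)
  X_D : ∀ x ∈ X, ∀ d ∈ D, ρ x d = d ∨ ρ x d = d + a
  X_perp : ∀ x ∈ X, ∀ v, b a v = 0 → ρ x v + v ∈ D
  X_all : ∀ φ : V →ₗ[ZMod 2] ZMod 2, φ a = 0 → ∃ x ∈ X, ∀ d ∈ D, ρ x d = d + φ d • a
  X_semi : ∀ x ∈ X, ∀ v, b a v = 1 → ρ x v + v ∈ D → x = 1
  X_T : ∀ x ∈ X, x ≠ 1 → ∃ v, b a v = 0 ∧ ρ x v + v ≠ 0 ∧ ρ x v + v ≠ a

namespace Cfg

variable {H V : Type*} [Group H] [AddCommGroup V] [Module (ZMod 2) V]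
  {ρ : H →* (V ≃ₗ[ZMod 2] V)} {b : LinearMap.BilinForm (ZMod 2) V} {q : V → ZMod 2}
  {a : V} {D : Submodule (ZMod 2) V} {X : Subgroup H} {w : ℕ}

theorem finite_V (C : Cfg ρ b q a D X w) : Finite V :=
  Nat.finite_of_card_ne_zero (by rw [C.card_V]; positivity)

theorem finite_H (C : Cfg ρ b q a D X w) : Finite H := by
  have := C.finite_V
  have : Finite (V ≃ₗ[ZMod 2] V) :=
    Finite.of_injective (fun g => (g : V → V)) DFunLike.coe_injective
  exact Finite.of_injective ρ C.inj

theorem add_self (_C : Cfg ρ b q a D X w) (v : V) : v + v = 0 := by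
  have : v + v = (2 : ZMod 2) • v := by rw [two_smul]
  rw [this, show (2 : ZMod 2) = 0 from rfl, zero_smul]

theorem neg_eq (C : Cfg ρ b q a D X w) (v : V) : -v = v :=
  neg_eq_of_add_eq_zero_left (C.add_self v)

theorem add_add_self (C : Cfg ρ b q a D X w) (x y : V) : x + y + y = x := by
  rw [add_assoc, C.add_self, add_zero]

theorem add_eq_zero (C : Cfg ρ b q a D X w) {x y : V} : x + y = 0 ↔ x = y := by
  constructor
  · intro h
    have := C.add_add_self x y
    rw [h, zero_add] at this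
    exact this.symm
  · rintro rfl; exact C.add_self x

theorem b_comm (C : Cfg ρ b q a D X w) (u v : V) : b u v = b v u := by
  have h := C.b_self (u + v)
  rw [map_add, map_add, LinearMap.add_apply, LinearMap.add_apply, C.b_self, C.b_self, zero_add,
    add_zero] at h
  exact (CharTwo.add_eq_zero.1 h).symm

theorem q_zero (C : Cfg ρ b q a D X w) : q 0 = 0 := C.q_D 0 D.zero_mem

theorem q_a (C : Cfg ρ b q a D X w) : q a = 0 := C.q_D a C.a_mem

theorem b_D (C : Cfg ρ b q a D X w) {u v : V} (hu : u ∈ D) (hv : v ∈ D) : b u v = 0 := by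
  have h := C.q_add u v
  rw [C.q_D _ hu, C.q_D _ hv, C.q_D _ (D.add_mem hu hv), zero_add, zero_add] at h
  exact h.symm

theorem b_aD (C : Cfg ρ b q a D X w) {v : V} (hv : v ∈ D) : b a v = 0 := C.b_D C.a_mem hv

theorem b_inv (C : Cfg ρ b q a D X w) (h : H) (u v : V) : b (ρ h u) (ρ h v) = b u v := by
  have h1 := C.q_add (ρ h u) (ρ h v)
  rw [← map_add, C.q_inv, C.q_inv, C.q_inv, C.q_add] at h1
  exact (add_left_cancel h1).symm

theorem ρ_mul (_C : Cfg ρ b q a D X w) (g h : H) (v : V) : ρ (g * h) v = ρ g (ρ h v) := by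
  rw [map_mul]; rfl

theorem ρ_one (_C : Cfg ρ b q a D X w) (v : V) : ρ 1 v = v := by
  rw [map_one]; rfl

theorem ρ_inv_apply (C : Cfg ρ b q a D X w) (g : H) (v : V) : ρ g⁻¹ (ρ g v) = v := by
  rw [← C.ρ_mul, inv_mul_cancel, C.ρ_one]

theorem ρ_apply_inv (C : Cfg ρ b q a D X w) (g : H) (v : V) : ρ g (ρ g⁻¹ v) = v := by
  rw [← C.ρ_mul, mul_inv_cancel, C.ρ_one]

theorem ext (C : Cfg ρ b q a D X w) {g h : H} (H' : ∀ v, ρ g v = ρ h v) : g = h :=
  C.inj (LinearEquiv.ext H')

theorem ρ_inj (_C : Cfg ρ b q a D X w) (g : H) {u v : V} (h : ρ g u = ρ g v) : u = v :=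
  (ρ g).injective h

theorem fix_inv (C : Cfg ρ b q a D X w) {g : H} {v : V} (h : ρ g v = v) : ρ g⁻¹ v = v := by
  nth_rewrite 1 [← h]
  exact C.ρ_inv_apply g v

theorem X_inv (C : Cfg ρ b q a D X w) {x : H} (hx : x ∈ X) : x⁻¹ = x :=
  inv_eq_of_mul_eq_one_left (C.X_sq x hx)

theorem X_comm (C : Cfg ρ b q a D X w) {x y : H} (hx : x ∈ X) (hy : y ∈ X) : x * y = y * x := by
  have h1 := C.X_sq _ (X.mul_mem hx hy)
  have h2 := C.X_inv (X.mul_mem hx hy)
  rw [mul_inv_rev, C.X_inv hx, C.X_inv hy] at h2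
  exact h2.symm

theorem X_a (C : Cfg ρ b q a D X w) {x : H} (hx : x ∈ X) : ρ x a = a := by
  rcases C.X_D x hx a C.a_mem with h | h
  · exact h
  · exfalso
    rw [C.add_self] at h
    apply C.a_ne
    have h1 := C.ρ_inv_apply x a
    rw [h, map_zero] at h1
    exact h1.symm

theorem X_fix_delta (C : Cfg ρ b q a D X w) {x : H} (hx : x ∈ X) (v : V) :
    ρ x (ρ x v + v) = ρ x v + v := by
  rw [map_add, ← C.ρ_mul, C.X_sq x hx, C.ρ_one, add_comm]

theorem b_a_ρ (C : Cfg ρ b q a D X w) {g : H} (hg : ρ g a = a) (v : V) : b a (ρ g v) = b a v := by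
  nth_rewrite 1 [← hg]
  exact C.b_inv g a v

theorem b_a_delta (C : Cfg ρ b q a D X w) {g : H} (hg : ρ g a = a) (v : V) :
    b a (ρ g v + v) = 0 := by
  rw [map_add, C.b_a_ρ hg, CharTwo.add_self_eq_zero]

theorem X_mem_D (C : Cfg ρ b q a D X w) {x : H} (hx : x ∈ X) {d : V} (hd : d ∈ D) : ρ x d ∈ D := by
  rcases C.X_D x hx d hd with h | h
  · rw [h]; exact hd
  · rw [h]; exact D.add_mem hd C.a_mem

/-- there is a vector off `a^⊥` -/
theorem exists_off (C : Cfg ρ b q a D X w) : ∃ c, b a c = 1 := by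
  by_contra hcon
  push Not at hcon
  apply C.a_ne
  apply C.nondeg
  intro u
  rcases zmod_two (b a u) with h | h
  · exact h
  · exact absurd h (hcon u)

end Cfg

end Cfsg.Agent.Omega.EH3
end

-- part: Omega/EH3/TForm
section
set_option linter.all false
open scoped Cfsg.Agent.FastGrp

-- part: Omega/EH3/TriFour
section
/-!
# An alternating trilinear form on a space of dimension at most 4 has a radical
-/

set_option autoImplicit false

namespace Cfsg.Agent.Omega.EH3.TriFour

open Module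

variable {E : Type*} [AddCommGroup E] [Module (ZMod 2) E]

/-- alternating trilinear -/
structure IsAlt (T : E →ₗ[ZMod 2] E →ₗ[ZMod 2] E →ₗ[ZMod 2] ZMod 2) : Prop where
  ab : ∀ x t, T x x t = 0
  bc : ∀ x t, T x t t = 0

variable {T : E →ₗ[ZMod 2] E →ₗ[ZMod 2] E →ₗ[ZMod 2] ZMod 2}

theorem IsAlt.swap_ab (h : IsAlt T) (x y t : E) : T y x t = T x y t := by
  have h1 := h.ab (x + y) t
  simp only [map_add, LinearMap.add_apply, h.ab, zero_add, add_zero] at h1
  have h2 : T x y t = - T y x t := eq_neg_of_add_eq_zero_right (by simpa only [add_comm] using h1)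
  rw [h2]
  generalize T y x t = c
  revert c
  decide

theorem IsAlt.swap_bc (h : IsAlt T) (x y t : E) : T x t y = T x y t := by
  have h1 := h.bc x (y + t)
  simp only [map_add, LinearMap.add_apply, h.bc, zero_add, add_zero] at h1
  have h2 : T x y t = - T x t y := eq_neg_of_add_eq_zero_right (by simpa only [add_comm] using h1)
  rw [h2]
  generalize T x t y = c
  revert c
  decide

theorem IsAlt.ac (h : IsAlt T) (x y : E) : T x y x = 0 := by
  rw [h.swap_bc, h.ab]

/-- **dimension 4** -/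
theorem exists_rad_four (h : IsAlt T) (e : Basis (Fin 4) (ZMod 2) E) : ∃ x : E, x ≠ 0 ∧ T x = 0 := by
  set p := T (e 1) (e 2) (e 3) with hp
  set q := T (e 0) (e 2) (e 3) with hq
  set r := T (e 0) (e 1) (e 3) with hr
  set s := T (e 0) (e 1) (e 2) with hs
  have e102 : T (e 1) (e 0) (e 2) = s := h.swap_ab _ _ _
  have e103 : T (e 1) (e 0) (e 3) = r := h.swap_ab _ _ _
  have e203 : T (e 2) (e 0) (e 3) = q := h.swap_ab _ _ _
  have e213 : T (e 2) (e 1) (e 3) = p := h.swap_ab _ _ _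
  have e201 : T (e 2) (e 0) (e 1) = s := by rw [h.swap_ab, h.swap_bc]
  have e301 : T (e 3) (e 0) (e 1) = r := by rw [h.swap_ab, h.swap_bc]
  have e302 : T (e 3) (e 0) (e 2) = q := by rw [h.swap_ab, h.swap_bc]
  have e312 : T (e 3) (e 1) (e 2) = p := by rw [h.swap_ab, h.swap_bc]
  have key : ∀ x : E, T x (e 0) (e 1) = 0 → T x (e 0) (e 2) = 0 → T x (e 0) (e 3) = 0 → T x (e 1) (e 2) = 0 →
      T x (e 1) (e 3) = 0 → T x (e 2) (e 3) = 0 → T x = 0 := by
    intro x h01 h02 h03 h12 h13 h23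
    have g01 : T x (e 1) (e 0) = 0 := by rw [h.swap_bc]; exact h01
    have g02 : T x (e 2) (e 0) = 0 := by rw [h.swap_bc]; exact h02
    have g03 : T x (e 3) (e 0) = 0 := by rw [h.swap_bc]; exact h03
    have g12 : T x (e 2) (e 1) = 0 := by rw [h.swap_bc]; exact h12
    have g13 : T x (e 3) (e 1) = 0 := by rw [h.swap_bc]; exact h13
    have g23 : T x (e 3) (e 2) = 0 := by rw [h.swap_bc]; exact h23
    refine e.ext fun i => e.ext fun j => ?_
    fin_cases i <;> fin_cases j <;> simp_all only [h.bc, _root_.Fin.isValue, _root_.Fin.zero_eta, _root_.LinearMap.zero_apply, _root_.Fin.mk_one, _root_.Fin.reduceFinMk]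
  by_cases h0 : p = 0 ∧ q = 0 ∧ r = 0 ∧ s = 0
  · obtain ⟨h1, h2, h3, h4⟩ := h0
    refine ⟨e 0, e.ne_zero 0, key _ ?_ ?_ ?_ ?_ ?_ ?_⟩
    · exact h.ab _ _
    · exact h.ab _ _
    · exact h.ab _ _
    · exact h4
    · exact h3
    · exact h2
  · refine ⟨p • e 0 + q • e 1 + r • e 2 + s • e 3, ?_, key _ ?_ ?_ ?_ ?_ ?_ ?_⟩
    · intro hv
      apply h0
      have h1 := fun i => congrArg (fun v => e.repr v i) hv
      have h10 := h1 0
      have h11 := h1 1
      have h12 := h1 2
      have h13 := h1 3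
      simp at h10 h11 h12 h13
      exact ⟨h10, h11, h12, h13⟩
    all_goals
      simp only [map_add, map_smul, LinearMap.add_apply, LinearMap.smul_apply, h.ab, h.ac, h.bc, e102, e103, e203,
        e213, e201, e301, e302, e312, ← hp, ← hq, ← hr, ← hs, smul_zero, zero_add, add_zero, smul_eq_mul]
    all_goals
      generalize p = p', q = q', r = r', s = s'
      revert p' q' r' s'
      decide

end Cfsg.Agent.Omega.EH3.TriFour
end

-- part: Omega/EH3/TForm
section
/-!
# The trilinear form of the configuration of EH3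

For `b a c = 1` put `sig x = ρ x c + c` (`x ∈ X`), `del x y = ρ y (sig x) + sig x ∈ D` and
`tri x y t = b (del x y) (sig t)`.

* `mem_D_of_perp_D` : `D^⊥ = D`; `exists_sig` : every `v ∈ a^⊥` is `sig x` modulo `D`;
* `tri` is trilinear (`tri_mul_*`), alternating and nondegenerate (`exists_tri`);
* `six` : `6 ≤ w`.
-/

set_option autoImplicit false

namespace Cfsg.Agent.Omega.EH3

namespace Cfg

open Module

variable {H V : Type*} [Group H] [AddCommGroup V] [Module (ZMod 2) V]
  {ρ : H →* (V ≃ₗ[ZMod 2] V)} {b : LinearMap.BilinForm (ZMod 2) V} {q : V → ZMod 2}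
  {a : V} {D : Submodule (ZMod 2) V} {X : Subgroup H} {w : ℕ}

theorem finrank_V (C : Cfg ρ b q a D X w) : finrank (ZMod 2) V = 2 * w := by
  have := C.finite_V
  have h1 := Module.natCard_eq_pow_finrank (K := ZMod 2) (V := V)
  rw [C.card_V, Nat.card_zmod] at h1
  exact (Nat.pow_right_injective le_rfl h1).symm

theorem finrank_D (C : Cfg ρ b q a D X w) : finrank (ZMod 2) D = w := by
  have := C.finite_V
  have h1 := Module.natCard_eq_pow_finrank (K := ZMod 2) (V := D)
  rw [C.card_D, Nat.card_zmod] at h1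
  exact (Nat.pow_right_injective le_rfl h1).symm

theorem b_nondeg (C : Cfg ρ b q a D X w) : b.Nondegenerate := by
  have := C.finite_V
  refine ⟨fun v hv => C.nondeg v hv, fun v hv => C.nondeg v fun u => ?_⟩
  rw [C.b_comm]
  exact hv u

/-- `D^⊥ = D` -/
theorem mem_D_of_perp_D (C : Cfg ρ b q a D X w) {v : V} (h : ∀ d ∈ D, b d v = 0) : v ∈ D := by
  have := C.finite_V
  have hle : D ≤ b.orthogonal D := fun d hd e he => C.b_D he hd
  have h1 : finrank (ZMod 2) (b.orthogonal D) = 2 * w - w := by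
    rw [LinearMap.BilinForm.finrank_orthogonal C.b_nondeg, C.finrank_V, C.finrank_D]
  have h2 : D = b.orthogonal D := Submodule.eq_of_le_of_finrank_eq hle (by rw [h1, C.finrank_D]; omega)
  rw [h2]
  exact h

/-- `sig x = [c, x]` -/
def sig (ρ : H →* (V ≃ₗ[ZMod 2] V)) (c : V) (x : H) : V := ρ x c + c

/-- `del x y = [c, x, y]` -/
def del (ρ : H →* (V ≃ₗ[ZMod 2] V)) (c : V) (x y : H) : V := ρ y (sig ρ c x) + sig ρ c x

/-- the trilinear form -/
def tri (ρ : H →* (V ≃ₗ[ZMod 2] V)) (b : LinearMap.BilinForm (ZMod 2) V) (c : V) (x y t : H) : ZMod 2 :=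
  b (del ρ c x y) (sig ρ c t)

variable {c : V} {x x' y y' t t' : H}

theorem b_a_sig (C : Cfg ρ b q a D X w) (hx : x ∈ X) (c : V) : b a (sig ρ c x) = 0 :=
  C.b_a_delta (C.X_a hx) c

theorem del_mem (C : Cfg ρ b q a D X w) (hx : x ∈ X) (hy : y ∈ X) (c : V) : del ρ c x y ∈ D :=
  C.X_perp y hy _ (C.b_a_sig hx c)

theorem sig_mul (C : Cfg ρ b q a D X w) (c : V) (x y : H) :
    sig ρ c (x * y) = sig ρ c x + sig ρ c y + del ρ c y x := by
  unfold del sig
  rw [C.ρ_mul, map_add]
  have h1 := C.add_self c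
  have h2 := C.add_self (ρ y c)
  have h3 := C.add_self (ρ x c)
  have : ρ x c + c + (ρ y c + c) + (ρ x (ρ y c) + ρ x c + (ρ y c + c)) =
      ρ x (ρ y c) + c + ((c + c) + (ρ y c + ρ y c) + (ρ x c + ρ x c)) := by abel
  rw [this, h1, h2, h3]
  simp

theorem del_comm (C : Cfg ρ b q a D X w) (hx : x ∈ X) (hy : y ∈ X) (c : V) : del ρ c x y = del ρ c y x := by
  have h1 := C.sig_mul c x y
  rw [C.X_comm hx hy, C.sig_mul, add_comm (sig ρ c y)] at h1
  exact (add_left_cancel h1)

theorem del_self (C : Cfg ρ b q a D X w) (hx : x ∈ X) (c : V) : del ρ c x x = 0 := by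
  unfold del sig
  rw [C.X_fix_delta hx, C.add_self]

/-- the functional of `x` on `D` is `b (sig x)` -/
theorem X_D_eq (C : Cfg ρ b q a D X w) (hc : b a c = 1) (hx : x ∈ X) {d : V} (hd : d ∈ D) :
    ρ x d = d + b d (sig ρ c x) • a := by
  have h1 : b (ρ x d + d) c = b d (sig ρ c x) := by
    have h2 : b (ρ x d) c = b d (ρ x c) := by
      nth_rewrite 1 [← C.ρ_inv_apply x c]
      rw [C.X_inv hx, C.b_inv]
    rw [map_add, LinearMap.add_apply, h2]
    unfold sig
    rw [map_add]
  rcases C.X_D x hx d hd with h | h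
  · rw [h, C.add_self, map_zero, LinearMap.zero_apply] at h1
    rw [h, ← h1, zero_smul, add_zero]
  · rw [h, add_assoc, add_comm a d, ← add_assoc, C.add_self, zero_add, hc] at h1
    rw [h, ← h1, one_smul]

/-- `X` maps onto `a^⊥/D` -/
theorem exists_sig (C : Cfg ρ b q a D X w) (hc : b a c = 1) {v : V} (hv : b a v = 0) :
    ∃ x ∈ X, v + sig ρ c x ∈ D := by
  obtain ⟨x, hx, hxd⟩ := C.X_all (b v) (by rw [C.b_comm]; exact hv)
  refine ⟨x, hx, C.mem_D_of_perp_D fun d hd => ?_⟩
  have h1 := C.X_D_eq hc hx hd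
  rw [hxd d hd] at h1
  have h2 := add_left_cancel h1
  rw [map_add, C.b_comm d v]
  rcases zmod_two (b v d) with h3 | h3 <;> rcases zmod_two (b d (sig ρ c x)) with h4 | h4 <;>
    rw [h3, h4] at h2 ⊢
  · rfl
  · rw [zero_smul, one_smul] at h2
    exact absurd h2.symm C.a_ne
  · rw [zero_smul, one_smul] at h2
    exact absurd h2 C.a_ne
  · decide

theorem tri_mul_three (C : Cfg ρ b q a D X w) (c : V) (hx : x ∈ X) (hy : y ∈ X) (ht : t ∈ X) (ht' : t' ∈ X) :
    tri ρ b c x y (t * t') = tri ρ b c x y t + tri ρ b c x y t' := by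
  unfold tri
  rw [C.sig_mul, map_add, map_add, C.b_D (C.del_mem hx hy c) (C.del_mem ht' ht c), add_zero]

theorem tri_mul_two (C : Cfg ρ b q a D X w) (c : V) (hx : x ∈ X) (hy : y ∈ X) (hy' : y' ∈ X) (ht : t ∈ X) :
    tri ρ b c x (y * y') t = tri ρ b c x y t + tri ρ b c x y' t := by
  have h1 : del ρ c x (y * y') = ρ y (del ρ c x y') + del ρ c x y := by
    unfold del
    rw [C.ρ_mul, map_add]
    have h2 := C.add_self (ρ y (sig ρ c x))
    have : ρ y (ρ y' (sig ρ c x)) + ρ y (sig ρ c x) + (ρ y (sig ρ c x) + sig ρ c x) =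
        ρ y (ρ y' (sig ρ c x)) + sig ρ c x + (ρ y (sig ρ c x) + ρ y (sig ρ c x)) := by abel
    rw [this, h2, add_zero]
  unfold tri
  rw [h1]
  rcases C.X_D y hy _ (C.del_mem hx hy' c) with h | h
  · rw [h, map_add, LinearMap.add_apply, add_comm]
  · rw [h, map_add, map_add, LinearMap.add_apply, LinearMap.add_apply, C.b_a_sig ht, add_zero, add_comm]

theorem tri_swap (C : Cfg ρ b q a D X w) (c : V) (hx : x ∈ X) (hy : y ∈ X) (t : H) :
    tri ρ b c x y t = tri ρ b c y x t := by
  unfold tri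
  rw [C.del_comm hx hy]

theorem tri_mul_one (C : Cfg ρ b q a D X w) (c : V) (hx : x ∈ X) (hx' : x' ∈ X) (hy : y ∈ X) (ht : t ∈ X) :
    tri ρ b c (x * x') y t = tri ρ b c x y t + tri ρ b c x' y t := by
  rw [C.tri_swap c (X.mul_mem hx hx') hy, C.tri_mul_two c hy hx hx' ht, C.tri_swap c hy hx, C.tri_swap c hy hx']

theorem tri_self (C : Cfg ρ b q a D X w) (c : V) (hx : x ∈ X) (t : H) : tri ρ b c x x t = 0 := by
  unfold tri
  rw [C.del_self hx, map_zero, LinearMap.zero_apply]

theorem tri_self' (C : Cfg ρ b q a D X w) (c : V) (x : H) (hy : y ∈ X) : tri ρ b c x y y = 0 := by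
  have e1 : b (ρ y (sig ρ c x)) (ρ y c) = b (sig ρ c x) c := C.b_inv y _ _
  have e2 : b (sig ρ c x) (ρ y c) = b (ρ y (sig ρ c x)) c := by
    have h := C.b_inv y (ρ y (sig ρ c x)) c
    rwa [← C.ρ_mul, C.X_sq y hy, C.ρ_one] at h
  show b (ρ y (sig ρ c x) + sig ρ c x) (ρ y c + c) = 0
  rw [map_add, map_add, LinearMap.add_apply, LinearMap.add_apply, e1, e2]
  generalize b (sig ρ c x) c = r
  generalize b (ρ y (sig ρ c x)) c = s
  revert r s
  decide

/-- **the trilinear form is nondegenerate** -/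
theorem exists_tri (C : Cfg ρ b q a D X w) (hc : b a c = 1) (hx : x ∈ X) (hx1 : x ≠ 1) :
    ∃ y ∈ X, ∃ t ∈ X, tri ρ b c x y t ≠ 0 := by
  obtain ⟨v, hv, h1, h2⟩ := C.X_T x hx hx1
  obtain ⟨y, hy, hyd⟩ := C.exists_sig hc hv
  refine ⟨y, hy, ?_⟩
  by_contra hcon
  push Not at hcon
  -- `del x y` is perpendicular to `a^⊥`
  have h3 : ∀ u, b a u = 0 → b (del ρ c x y) u = 0 := by
    intro u hu
    obtain ⟨t, ht, htd⟩ := C.exists_sig hc hu
    have h4 := C.b_D (C.del_mem hx hy c) htd
    rw [map_add, show b (del ρ c x y) (sig ρ c t) = 0 from hcon t ht, add_zero] at h4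
    exact h4
  have h4 : del ρ c x y = 0 ∨ del ρ c x y = a := by
    rcases zmod_two (b (del ρ c x y) c) with h5 | h5
    · left
      apply C.nondeg
      intro u
      rcases zmod_two (b a u) with h6 | h6
      · exact h3 u h6
      · have h7 := h3 (u + c) (by rw [map_add, h6, hc]; decide)
        rw [map_add, h5, add_zero] at h7
        exact h7
    · right
      rw [← C.add_eq_zero]
      apply C.nondeg
      intro u
      rw [map_add, LinearMap.add_apply]
      rcases zmod_two (b a u) with h6 | h6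
      · rw [h3 u h6, h6, add_zero]
      · have h7 := h3 (u + c) (by rw [map_add, h6, hc]; decide)
        rw [map_add, h5] at h7
        rw [h6]
        exact h7
  -- `ρ x v + v` is `del y x` up to `a`
  have h5 : ρ x v + v = del ρ c y x ∨ ρ x v + v = del ρ c y x + a := by
    have h6 : ρ x v + v + del ρ c y x = ρ x (v + sig ρ c y) + (v + sig ρ c y) := by
      unfold del
      rw [map_add]
      abel
    rcases C.X_D x hx _ hyd with h7 | h7
    · left
      rw [h7, C.add_self] at h6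
      exact C.add_eq_zero.mp h6
    · right
      have h9 : v + sig ρ c y + a + (v + sig ρ c y) = (v + sig ρ c y) + (v + sig ρ c y) + a := by abel
      rw [h7, h9, C.add_self, zero_add] at h6
      have h8 := C.add_add_self (ρ x v + v) (del ρ c y x)
      rw [h6] at h8
      rw [← h8, add_comm]
  rw [C.del_comm hy hx] at h5
  rcases h4 with h4 | h4 <;> rcases h5 with h5 | h5 <;> rw [h4] at h5
  · exact h1 h5
  · exact h2 (by rw [h5, zero_add])
  · exact h2 h5
  · exact h1 (by rw [h5, C.add_self])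

/-- **`w ≥ 6`** -/
theorem six (C : Cfg ρ b q a D X w) : 6 ≤ w := by
  by_contra hcon
  have hw : w = 5 := by have := C.five; omega
  obtain ⟨c, hc⟩ := C.exists_off
  have := C.finite_H
  let _ : CommGroup X := { (inferInstance : Group X) with
    mul_comm := fun x y => Subtype.ext (C.X_comm x.2 y.2) }
  let E := Additive X
  let _ : Module (ZMod 2) E := AddCommGroup.zmodModule (n := 2) (fun x => by
    rw [two_nsmul]
    exact Subtype.ext (C.X_sq _ (Additive.toMul x).2))
  let g : E → H := fun x => ((Additive.toMul x : X) : H)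
  have hg : ∀ x : E, g x ∈ X := fun x => (Additive.toMul x : X).2
  have hgm : ∀ x y : E, g (x + y) = g x * g y := fun x y => rfl
  let T3 : E → E → (E →ₗ[ZMod 2] ZMod 2) := fun x y =>
    (AddMonoidHom.mk' (fun t => tri ρ b c (g x) (g y) (g t)) fun t t' => by
      rw [hgm]; exact C.tri_mul_three c (hg x) (hg y) (hg t) (hg t')).toZModLinearMap 2
  have hT3 : ∀ x y t, T3 x y t = tri ρ b c (g x) (g y) (g t) := fun _ _ _ => rfl
  let T2 : E → (E →ₗ[ZMod 2] E →ₗ[ZMod 2] ZMod 2) := fun x =>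
    (AddMonoidHom.mk' (fun y => T3 x y) fun y y' => by
      ext t
      rw [LinearMap.add_apply, hT3, hT3, hT3, hgm]
      exact C.tri_mul_two c (hg x) (hg y) (hg y') (hg t)).toZModLinearMap 2
  have hT2 : ∀ x y t, T2 x y t = tri ρ b c (g x) (g y) (g t) := fun _ _ _ => rfl
  let T : E →ₗ[ZMod 2] E →ₗ[ZMod 2] E →ₗ[ZMod 2] ZMod 2 :=
    (AddMonoidHom.mk' (fun x => T2 x) fun x x' => by
      ext y t
      rw [LinearMap.add_apply, LinearMap.add_apply, hT2, hT2, hT2, hgm]
      exact C.tri_mul_one c (hg x) (hg x') (hg y) (hg t)).toZModLinearMap 2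
  have hT : ∀ x y t, T x y t = tri ρ b c (g x) (g y) (g t) := fun _ _ _ => rfl
  have hA : TriFour.IsAlt T := ⟨fun x t => by rw [hT]; exact C.tri_self c (hg x) _,
    fun x t => by rw [hT]; exact C.tri_self' c _ (hg t)⟩
  have hcE : Nat.card E = 2 ^ 4 := by
    have h1 : Nat.card E = Nat.card X := rfl
    rw [h1, C.card_X, hw]
  have hf : finrank (ZMod 2) E = 4 := by
    have h1 := Module.natCard_eq_pow_finrank (K := ZMod 2) (V := E)
    rw [hcE, Nat.card_zmod] at h1
    exact (Nat.pow_right_injective le_rfl h1).symm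
  obtain ⟨x, hx, hTx⟩ := TriFour.exists_rad_four hA (Module.finBasisOfFinrankEq (ZMod 2) E hf)
  have hgx : g x ≠ 1 := fun h => hx (by
    have h1 : (Additive.toMul x : X) = 1 := Subtype.ext h
    exact h1)
  obtain ⟨y, hy, t, ht, h1⟩ := C.exists_tri hc (hg x) hgx
  apply h1
  have h2 := hT x (Additive.ofMul ⟨y, hy⟩) (Additive.ofMul ⟨t, ht⟩)
  rw [hTx] at h2
  exact h2.symm

end Cfg

end Cfsg.Agent.Omega.EH3
end
end

-- part: Omega/TwoF/Defs
section
set_option linter.all false
open scoped Cfsg.Agent.FastGrp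

/-!
# K-facts of project OMEGA: the columns of TABLE 2F

Owner: helper333.  The rows are in `Cfsg.Agent.Omega.KFacts`.

* `OddCover π` : `π : L → K` onto, `L` perfect, central kernel of odd order;
* `LB K n` : every nontrivial action of an odd cover of `K` on an elementary abelian 2-group `V` has `|V| ≥ 2^n`;
* `LBs K n` : the same for `V` with an invariant nondegenerate alternating form;
* `RK K a` : elementary abelian 2-groups of automorphisms of `K` have order at most `2^a`;
* `Dead2 K` : `LBs K n`, `RK K a` and `2a + 2 < n` or `a ≤ 4` for some `n`, `a`;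
* `Conf2 φ b L X a` : the numerical part of the configuration of EH3 (`q = 2`; the width is at least 6 because the
  trilinear form on `X` is alternating and nondegenerate) and `Kill2 K`: it does not occur for odd covers `L` of `K`;
  `Dead2.kill : Dead2 K → Kill2 K`;
* `ZS K`, `OutOdd K` : the facts consumed for `q ≥ 4`.
-/

set_option autoImplicit false

namespace Cfsg.Agent.Omega.TwoF

open Subgroup Cfsg

universe u v w

/-! ### Columns -/

/-- `π : L → K` is an odd cover of `K`: `L` is perfect, `π` is onto with central kernel of odd order. -/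
structure OddCover {L : Type*} {K : Type*} [Group L] [Group K] (π : L →* K) : Prop where
  perf : commutator L = ⊤
  surj : Function.Surjective π
  cent : π.ker ≤ center L
  odd : Odd (Nat.card π.ker)

/-- A nondegenerate alternating form on the elementary abelian 2-group `V` (written multiplicatively). -/
structure IsForm {V : Type*} [CommGroup V] (b : V → V → ZMod 2) : Prop where
  add_left : ∀ x y z, b (x * y) z = b x z + b y z
  add_right : ∀ x y z, b x (y * z) = b x y + b x z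
  alt : ∀ x, b x x = 0
  nondeg : ∀ x, (∀ y, b x y = 0) → x = 1

/-- `(LB K n)`: every nontrivial action of a finite odd cover of `K` on a finite elementary abelian 2-group `V` has
`|V| ≥ 2^n`. -/
def LB (K : Type v) [Group K] (n : ℕ) : Prop :=
  ∀ (L : Type u) [Group L] [Finite L] (π : L →* K), OddCover π →
    ∀ (V : Type u) [CommGroup V] [Finite V] (φ : L →* MulAut V),
      (∀ x : V, x ^ 2 = 1) → φ ≠ 1 → 2 ^ n ≤ Nat.card V

/-- `(LBs K n)`: the same, for `V` with an invariant nondegenerate alternating form. -/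
def LBs (K : Type v) [Group K] (n : ℕ) : Prop :=
  ∀ (L : Type u) [Group L] [Finite L] (π : L →* K), OddCover π →
    ∀ (V : Type u) [CommGroup V] [Finite V] (φ : L →* MulAut V) (b : V → V → ZMod 2), IsForm b →
      (∀ g x y, b (φ g x) (φ g y) = b x y) →
      (∀ x : V, x ^ 2 = 1) → φ ≠ 1 → 2 ^ n ≤ Nat.card V

/-- `(RK K a)`: an elementary abelian 2-group of automorphisms of `K` has order at most `2^a`. -/
def RK (K : Type v) [Group K] (a : ℕ) : Prop :=
  ∀ A : Subgroup (MulAut K), (∀ x ∈ A, x ^ 2 = 1) → Nat.card A ≤ 2 ^ a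

/-- `K` is excluded for `q = 2` by the numerical criterion (`|V| = 4|A|²`, `|V| ≥ 2^12`). -/
def Dead2 (K : Type v) [Group K] : Prop :=
  ∃ n a : ℕ, LBs.{u} K n ∧ RK K a ∧ (2 * a + 2 < n ∨ a ≤ 4)

/-! ### Transfer -/

theorem OddCover.comp {L : Type*} {K K' : Type*} [Group L] [Group K] [Group K'] {π : L →* K} (h : OddCover π)
    (e : K ≃* K') : OddCover (e.toMonoidHom.comp π) := by
  have hk : (e.toMonoidHom.comp π).ker = π.ker := by
    ext x
    simp [MonoidHom.mem_ker]
  exact ⟨h.perf, e.surjective.comp h.surj, hk ▸ h.cent, hk ▸ h.odd⟩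

theorem LB.mono {K : Type v} [Group K] {m n : ℕ} (h : LB.{u} K n) (hmn : m ≤ n) : LB.{u} K m :=
  fun L _ _ π hπ V _ _ φ h2 h1 => (Nat.pow_le_pow_right two_pos hmn).trans (h L π hπ V φ h2 h1)

theorem LBs.mono {K : Type v} [Group K] {m n : ℕ} (h : LBs.{u} K n) (hmn : m ≤ n) : LBs.{u} K m :=
  fun L _ _ π hπ V _ _ φ b hb hi h2 h1 =>
    (Nat.pow_le_pow_right two_pos hmn).trans (h L π hπ V φ b hb hi h2 h1)

theorem LB.lbs {K : Type v} [Group K] {n : ℕ} (h : LB.{u} K n) : LBs.{u} K n :=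
  fun L _ _ π hπ V _ _ φ _ _ _ h2 h1 => h L π hπ V φ h2 h1

theorem LB.equiv {K : Type v} {K' : Type w} [Group K] [Group K'] (e : K ≃* K') {n : ℕ} (h : LB.{u} K' n) :
    LB.{u} K n :=
  fun L _ _ _ hπ V _ _ φ h2 h1 => h L _ (hπ.comp e) V φ h2 h1

theorem LBs.equiv {K : Type v} {K' : Type w} [Group K] [Group K'] (e : K ≃* K') {n : ℕ} (h : LBs.{u} K' n) :
    LBs.{u} K n :=
  fun L _ _ _ hπ V _ _ φ b hb hi h2 h1 => h L _ (hπ.comp e) V φ b hb hi h2 h1

theorem RK.mono {K : Type v} [Group K] {a b : ℕ} (h : RK K a) (hab : a ≤ b) : RK K b :=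
  fun A hA => (h A hA).trans (Nat.pow_le_pow_right two_pos hab)

/-- The rank bound in injective form. -/
theorem RK.card_le_of_injective {K : Type v} [Group K] {a : ℕ} (h : RK K a) {E : Type*} [Group E]
    (f : E →* MulAut K) (hf : Function.Injective f) (hE : ∀ x : E, x ^ 2 = 1) : Nat.card E ≤ 2 ^ a := by
  have h1 : Nat.card f.range ≤ 2 ^ a := by
    refine h f.range ?_
    rintro _ ⟨x, rfl⟩
    rw [← map_pow, hE, map_one]
  rwa [← Nat.card_congr (MonoidHom.ofInjective hf).toEquiv] at h1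

theorem RK.equiv {K : Type v} {K' : Type w} [Group K] [Group K'] (e : K ≃* K') {a : ℕ} (h : RK K' a) :
    RK K a := by
  intro A hA
  refine h.card_le_of_injective ((MulAut.congr e).toMonoidHom.comp A.subtype) ?_ fun x =>
    Subtype.ext (by simpa using hA x x.2)
  exact (MulAut.congr e).injective.comp A.subtype_injective

/-- A group with an injective homomorphism from `MulAut K`, e.g. a known overgroup. -/
theorem RK.of_injective {K : Type v} [Group K] {X : Type*} [Group X] {a : ℕ} (f : MulAut K →* X)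
    (hf : Function.Injective f) (h : ∀ A : Subgroup X, (∀ x ∈ A, x ^ 2 = 1) → Nat.card A ≤ 2 ^ a) : RK K a := by
  intro A hA
  have h1 := h (A.map f) (by
    rintro _ ⟨x, hx, rfl⟩
    rw [← map_pow, hA x hx, map_one])
  rwa [← Nat.card_congr (A.equivMapOfInjective f hf).toEquiv] at h1

/-! ### The rank bound in a group with a normal odd cover -/

section Cover

variable {X : Type*} [Group X] {L : Subgroup X} {K : Type v} [Group K] {π : L →* K}

/-- `π(L) = K` centreless: the kernel is the centre. -/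
theorem OddCover.ker_eq (h : OddCover π) (hK : center K = ⊥) : π.ker = center L := by
  refine le_antisymm h.cent fun x hx => ?_
  rw [MonoidHom.mem_ker, ← mem_bot, ← hK, mem_center_iff]
  intro k
  obtain ⟨y, rfl⟩ := h.surj k
  rw [← map_mul, ← map_mul, mem_center_iff.mp hx y]

/-- The action of `X` on `K` (through the normal odd cover `L ≤ X`). -/
theorem OddCover.exists_hom [L.Normal] (h : OddCover π) (hK : center K = ⊥) :
    ∃ f : X →* MulAut K, ∀ (x : X) (l : L) (l' : L), (l' : X) = x * l * x⁻¹ → f x (π l) = π l' := by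
  have hZ : ∀ (φ : MulAut L) (l : L), l ∈ π.ker → φ l ∈ π.ker := by
    intro φ l hl
    rw [h.ker_eq hK] at hl ⊢
    rw [mem_center_iff] at hl ⊢
    intro g
    obtain ⟨g, rfl⟩ := φ.surjective g
    rw [← map_mul, ← map_mul, hl g]
  have hZ' : ∀ (φ : MulAut L), π.ker.map (φ : L ≃* L).toMonoidHom = π.ker := by
    intro φ
    apply le_antisymm
    · rintro _ ⟨l, hl, rfl⟩
      exact hZ φ l hl
    · intro l hl
      exact ⟨φ⁻¹ l, hZ φ⁻¹ l hl, MulAut.apply_inv_self _ φ l⟩
  let eK : L ⧸ π.ker ≃* K := QuotientGroup.quotientKerEquivOfSurjective π h.surj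
  let F : MulAut L →* MulAut (L ⧸ π.ker) :=
    { toFun := fun φ => QuotientGroup.congr _ _ (φ : L ≃* L) (hZ' φ)
      map_one' := by
        ext x
        obtain ⟨x, rfl⟩ := QuotientGroup.mk_surjective x
        rfl
      map_mul' := by
        intro φ ψ
        ext x
        obtain ⟨x, rfl⟩ := QuotientGroup.mk_surjective x
        rfl }
  refine ⟨(MulAut.congr eK).toMonoidHom.comp (F.comp MulAut.conjNormal), ?_⟩
  intro x l l' hl
  have h1 : eK.symm (π l) = (l : L ⧸ π.ker) := by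
    rw [MulEquiv.symm_apply_eq]
    rfl
  show eK (F (MulAut.conjNormal x) (eK.symm (π l))) = π l'
  rw [h1]
  show π (MulAut.conjNormal x l) = π l'
  congr 1
  apply Subtype.ext
  rw [MulAut.conjNormal_apply, hl]

/-- **The rank bound**, `L ≤ X` a normal odd cover of `K`, `A ∩ C_X(L) = 1`. -/
theorem RK.card_le {a : ℕ} (hr : RK K a) [L.Normal] (h : OddCover π) (hK : center K = ⊥) {A : Subgroup X}
    (hA : ∀ x ∈ A, x ^ 2 = 1) (hC : A ⊓ centralizer (L : Set X) = ⊥) : Nat.card A ≤ 2 ^ a := by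
  obtain ⟨f, hf⟩ := h.exists_hom hK
  refine hr.card_le_of_injective (f.comp A.subtype) ?_ fun x => Subtype.ext (by simpa using hA x x.2)
  rw [injective_iff_map_eq_one]
  intro x hx
  have hcomm : ∀ l : L, ∃ z ∈ center L, (x : X) * l * (x : X)⁻¹ = l * z := by
    intro l
    have h1 := hf x l ⟨(x : X) * l * (x : X)⁻¹, Normal.conj_mem inferInstance _ l.2 _⟩ rfl
    have h2 : f x = 1 := hx
    rw [h2, MulAut.one_apply] at h1
    refine ⟨l⁻¹ * ⟨(x : X) * l * (x : X)⁻¹, Normal.conj_mem inferInstance _ l.2 _⟩, ?_, ?_⟩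
    · rw [← h.ker_eq hK, MonoidHom.mem_ker, map_mul, map_inv, ← h1, inv_mul_cancel]
    · simp
  -- the map `l ↦ l⁻¹ (x l x⁻¹)` is a homomorphism of `L` into its centre
  choose z hz hz' using hcomm
  have hzmul : ∀ l m : L, z (l * m) = z l * z m := by
    intro l m
    apply Subtype.ext
    have e1 := hz' (l * m)
    have e2 := hz' l
    have e3 := hz' m
    have e4 := mem_center_iff.mp (hz l) m
    have e4' : (m : X) * (z l : X) = (z l : X) * (m : X) := congrArg Subtype.val e4
    push_cast at e1 ⊢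
    have e5 : (x : X) * ((l : X) * m) * (x : X)⁻¹ = ((x : X) * l * (x : X)⁻¹) * ((x : X) * m * (x : X)⁻¹) := by
      group
    rw [e5, e2, e3] at e1
    have e6 : (l : X) * (z l : X) * ((m : X) * (z m : X)) = (l : X) * (m : X) * ((z l : X) * (z m : X)) := by
      rw [mul_assoc, ← mul_assoc (z l : X), ← e4', mul_assoc (m : X), ← mul_assoc (l : X)]
    rw [e6] at e1
    exact (mul_left_cancel e1).symm
  let ζ : L →* center L :=
    { toFun := fun l => ⟨z l, hz l⟩
      map_one' := by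
        apply Subtype.ext
        have := hzmul 1 1
        rw [mul_one] at this
        exact (left_eq_mul.mp this)
      map_mul' := fun l m => Subtype.ext (hzmul l m) }
  have hζ : ∀ l, ζ l = 1 := by
    intro l
    have h1 : commutator L ≤ ζ.ker := by
      rw [commutator_def, commutator_le]
      intro a _ b _
      have hc : ∀ s t : center L, s * t = t * s := fun s t => Subtype.ext (mem_center_iff.mp t.2 s)
      rw [MonoidHom.mem_ker, map_commutatorElement, commutatorElement_def, hc (ζ a), mul_assoc, mul_assoc]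
      simp
    rw [h.perf] at h1
    exact h1 (mem_top l)
  have hxc : (x : X) ∈ centralizer (L : Set X) := by
    rw [mem_centralizer_iff]
    intro l hl
    have h1 := hz' ⟨l, hl⟩
    have h2 : z ⟨l, hl⟩ = 1 := congrArg Subtype.val (hζ ⟨l, hl⟩)
    rw [h2] at h1
    simp only [OneMemClass.coe_one, mul_one] at h1
    rw [mul_inv_eq_iff_eq_mul] at h1
    exact h1.symm
  have h3 : (x : X) ∈ A ⊓ centralizer (L : Set X) := ⟨x.2, hxc⟩
  rw [hC] at h3
  exact Subtype.ext (mem_bot.mp h3)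

end Cover

/-! ### The configuration of EH3 -/

/-- **The configuration of EH3** (`q = 2`, width `w ≥ 6`): `H` acts faithfully and irreducibly on `V` preserving a
nondegenerate alternating form, `|V| ≥ 2^12`, `L` is normal in `H` (an odd cover of the simple group in question),
`1 ≠ a ∈ V`, `X` is an elementary abelian normal 2-subgroup of the stabiliser `H_a`, `H_a` contains a Sylow
2-subgroup of `H`, `X ∩ C_H(L) = 1` and `|V| ≤ 4|X|²`. -/
structure Conf2 {H V : Type*} [Group H] [CommGroup V] (φ : H →* MulAut V) (b : V → V → ZMod 2) (L X : Subgroup H)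
    (a : V) : Prop where
  inj : Function.Injective φ
  form : IsForm b
  inv : ∀ g x y, b (φ g x) (φ g y) = b x y
  two : ∀ x : V, x ^ 2 = 1
  irr : ∀ W : Subgroup V, (∀ g, ∀ x ∈ W, φ g x ∈ W) → W = ⊥ ∨ W = ⊤
  twelve : 2 ^ 12 ≤ Nat.card V
  normal : L.Normal
  a_ne : a ≠ 1
  X_two : ∀ x ∈ X, x ^ 2 = 1
  X_fix : ∀ x ∈ X, φ x a = a
  X_norm : ∀ h, φ h a = a → ∀ x ∈ X, h * x * h⁻¹ ∈ X
  syl : ∃ S : Sylow 2 H, ∀ s ∈ S, φ s a = a
  cent : X ⊓ centralizer (L : Set H) = ⊥
  card_le : Nat.card V ≤ 4 * Nat.card X ^ 2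

/-- `K` is excluded in EH3: `Conf2` does not occur for the odd covers of `K`. -/
def Kill2 (K : Type v) [Group K] : Prop :=
  ∀ (H V : Type u) [Group H] [Finite H] [CommGroup V] [Finite V] (φ : H →* MulAut V) (b : V → V → ZMod 2)
    (L X : Subgroup H) (a : V) (π : L →* K), OddCover π → ¬ Conf2 φ b L X a

/-- In `Conf2` the group `L` acts nontrivially. -/
theorem Conf2.ne_one {H V : Type*} [Group H] [CommGroup V] {φ : H →* MulAut V} {b : V → V → ZMod 2}
    {L X : Subgroup H} {a : V} (h : Conf2 φ b L X a) (hL : L ≠ ⊥) : φ.comp L.subtype ≠ 1 := by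
  intro h1
  apply hL
  rw [eq_bot_iff]
  intro l hl
  have h2 : φ l = 1 := DFunLike.congr_fun h1 (⟨l, hl⟩ : L)
  rw [mem_bot]
  exact h.inj (h2.trans (map_one φ).symm)

/-- Lower bound and rank bound in `Conf2`: `n ≤ dim V ≤ 2a + 2`. -/
theorem Conf2.bounds {K : Type v} [Group K] {n r : ℕ} (hn : LBs.{u} K n) (hr : RK K r) (hK : center K = ⊥)
    (hK1 : Nontrivial K) {H V : Type u} [Group H] [Finite H] [CommGroup V] [Finite V] {φ : H →* MulAut V}
    {b : V → V → ZMod 2} {L X : Subgroup H} {a : V} {π : L →* K} (hπ : OddCover π) (h : Conf2 φ b L X a) :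
    2 ^ n ≤ Nat.card V ∧ Nat.card X ≤ 2 ^ r ∧ Nat.card V ≤ 2 ^ (2 * r + 2) := by
  have hL : L ≠ ⊥ := by
    rintro rfl
    obtain ⟨k, hk⟩ := exists_ne (1 : K)
    obtain ⟨l, rfl⟩ := hπ.surj k
    exact hk (by rw [Subsingleton.elim l 1, map_one])
  have := h.normal
  have h1 : Nat.card X ≤ 2 ^ r := hr.card_le hπ hK h.X_two h.cent
  refine ⟨hn L π hπ V (φ.comp L.subtype) b h.form (fun g x y => h.inv _ _ _) h.two (h.ne_one hL), h1, ?_⟩
  refine h.card_le.trans ?_
  calc 4 * Nat.card X ^ 2 ≤ 4 * (2 ^ r) ^ 2 := Nat.mul_le_mul_left 4 (Nat.pow_le_pow_left h1 2)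
    _ = 2 ^ (2 * r + 2) := by ring

/-- **The numerical criterion.** -/
theorem Dead2.kill {K : Type v} [Group K] (hd : Dead2.{u} K) (hK : center K = ⊥) (hK1 : Nontrivial K) :
    Kill2.{u} K := by
  obtain ⟨n, r, hn, hr, hnr⟩ := hd
  intro H V _ _ _ _ φ b L X a π hπ h
  obtain ⟨h1, -, h2⟩ := Conf2.bounds hn hr hK hK1 hπ h
  rcases hnr with h3 | h3
  · exact absurd (Nat.pow_le_pow_iff_right (by norm_num) |>.mp (h1.trans h2)) (by omega)
  · exact absurd (Nat.pow_le_pow_iff_right (by norm_num) |>.mp (h.twelve.trans h2)) (by omega)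

theorem Kill2.equiv {K : Type v} {K' : Type w} [Group K] [Group K'] (e : K ≃* K') (h : Kill2.{u} K') :
    Kill2.{u} K :=
  fun H V _ _ _ _ φ b L X a π hπ => h H V φ b L X a (e.toMonoidHom.comp π) (hπ.comp e)

theorem Dead2.equiv {K : Type v} {K' : Type w} [Group K] [Group K'] (e : K ≃* K') (h : Dead2.{u} K') :
    Dead2.{u} K := by
  obtain ⟨n, r, hn, hr, hnr⟩ := h
  exact ⟨n, r, hn.equiv e, hr.equiv e, hnr⟩

/-- **A group of automorphism 2-rank at most 4 is excluded.** -/
theorem Dead2.of_rk {K : Type v} [Group K] (h : RK K 4) : Dead2.{u} K :=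
  ⟨0, 4, fun _ _ _ _ _ _ _ _ _ _ _ _ _ _ => Nat.card_pos, h, Or.inr le_rfl⟩

/-- The standard criterion. -/
theorem Dead2.of_lb {K : Type v} [Group K] {n a : ℕ} (hn : LB.{u} K n) (hr : RK K a) (h : 2 * a + 2 < n) :
    Dead2.{u} K :=
  ⟨n, a, hn.lbs, hr, Or.inl h⟩

/-! ### The facts for `q ≥ 4` -/

/-- `(ZS K)`: no automorphism `t` of odd order normalising a Sylow 2-subgroup `S` of `K` normalises and acts
fixed-point-freely on a nontrivial elementary abelian `U ≤ Z(S)`. -/
def ZS (K : Type v) [Group K] : Prop :=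
  ∀ (S : Sylow 2 K) (t : MulAut K), Odd (orderOf t) → (∀ s ∈ S, t s ∈ S) →
    ∀ U : Subgroup K, U ≤ (S : Subgroup K) → (S : Subgroup K) ≤ centralizer (U : Set K) → (∀ u ∈ U, u ^ 2 = 1) →
      (∀ u ∈ U, t u ∈ U) → (∀ u ∈ U, t u = u → u = 1) → U = ⊥

end Cfsg.Agent.Omega.TwoF
end

-- part: Omega/EH3/Row
section
set_option linter.all false
open scoped Cfsg.Agent.FastGrp

/-!
# The rows of EH3

`RowEH3 K` : the configuration `Cfg` of EH3 does not occur with a normal odd cover `L` of `K` in `H`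
(`X ∩ C_H(L) = 1`).  `RowEH3.of_dead : Dead2 K → RowEH3 K` is the numerical criterion; `bounds`: `n ≤ 2w`, `w - 1 ≤ r`.
-/

set_option autoImplicit false

namespace Cfsg.Agent.Omega.EH3

open Subgroup TwoF

universe u v w

/-- **The row of `K`**: no configuration with a normal odd cover of `K`. -/
def RowEH3 (K : Type v) [Group K] : Prop :=
  ∀ (H V : Type u) [Group H] [AddCommGroup V] [Module (ZMod 2) V] (ρ : H →* (V ≃ₗ[ZMod 2] V))
    (b : LinearMap.BilinForm (ZMod 2) V) (q : V → ZMod 2) (a : V) (D : Submodule (ZMod 2) V) (X : Subgroup H) (w : ℕ)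
    (L : Subgroup H) (π : L →* K), L.Normal → OddCover π → X ⊓ centralizer (L : Set H) = ⊥ →
    ¬ Cfg ρ b q a D X w

theorem RowEH3.equiv {K : Type v} {K' : Type w} [Group K] [Group K'] (e : K ≃* K') (h : RowEH3.{u} K') :
    RowEH3.{u} K :=
  fun H V _ _ _ ρ b q a D X w L π hL hπ => h H V ρ b q a D X w L (e.toMonoidHom.comp π) hL (hπ.comp e)

section bounds

variable {K : Type v} [Group K] {H V : Type u} [Group H] [AddCommGroup V] [Module (ZMod 2) V]
  {ρ : H →* (V ≃ₗ[ZMod 2] V)} {b : LinearMap.BilinForm (ZMod 2) V} {q : V → ZMod 2} {a : V}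
  {D : Submodule (ZMod 2) V} {X : Subgroup H} {w : ℕ} {L : Subgroup H} {π : L →* K}

/-- the action on `Multiplicative V` -/
def act (ρ : H →* (V ≃ₗ[ZMod 2] V)) : H →* MulAut (Multiplicative V) where
  toFun h := AddEquiv.toMultiplicative (ρ h).toAddEquiv
  map_one' := by
    ext v
    rw [map_one]
    rfl
  map_mul' g h := by
    ext v
    rw [map_mul]
    rfl

theorem act_apply (ρ : H →* (V ≃ₗ[ZMod 2] V)) (h : H) (v : V) :
    act ρ h (Multiplicative.ofAdd v) = Multiplicative.ofAdd (ρ h v) := rfl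

/-- the rank bound: `w - 1 ≤ r` -/
theorem rank_le (C : Cfg ρ b q a D X w) {r : ℕ} (hr : RK K r) (hK : center K = ⊥) (hL : L.Normal)
    (hπ : OddCover π) (hX : X ⊓ centralizer (L : Set H) = ⊥) : w - 1 ≤ r := by
  have h1 := hr.card_le hπ hK (A := X) (fun x hx => by rw [pow_two]; exact C.X_sq x hx) hX
  rw [C.card_X] at h1
  exact (Nat.pow_le_pow_iff_right (by norm_num)).mp h1

/-- the lower bound: `n ≤ 2w` -/
theorem le_dim (C : Cfg ρ b q a D X w) {n : ℕ} (hn : LBs.{u} K n) [Nontrivial K] (hπ : OddCover π) :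
    n ≤ 2 * w := by
  have := C.finite_H
  have := C.finite_V
  have h1 := hn L π hπ (Multiplicative V) ((act ρ).comp L.subtype)
    (fun u v => b (Multiplicative.toAdd u) (Multiplicative.toAdd v))
    { add_left := fun x y z => by rw [toAdd_mul, map_add, LinearMap.add_apply]
      add_right := fun x y z => by rw [toAdd_mul, map_add]
      alt := fun x => C.b_self _
      nondeg := fun x hx => C.nondeg _ fun u => hx (Multiplicative.ofAdd u) }
    (fun g x y => C.b_inv _ _ _)
    (fun x => by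
      rw [pow_two]
      exact C.add_self (Multiplicative.toAdd x))
    (by
      intro h
      obtain ⟨k, hk⟩ := exists_ne (1 : K)
      obtain ⟨l, rfl⟩ := hπ.surj k
      apply hk
      have h2 : (l : H) = 1 := by
        apply C.inj
        rw [map_one]
        ext v
        exact DFunLike.congr_fun (DFunLike.congr_fun h l) (Multiplicative.ofAdd v)
      rw [show l = 1 from Subtype.ext h2, map_one])
  have h2 : Nat.card (Multiplicative V) = 2 ^ (2 * w) := C.card_V
  rw [h2] at h1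
  exact (Nat.pow_le_pow_iff_right (by norm_num)).mp h1

end bounds

/-- **The numerical criterion.** -/
theorem RowEH3.of_dead {K : Type v} [Group K] [Nontrivial K] (hK : center K = ⊥) (hd : Dead2.{u} K) :
    RowEH3.{u} K := by
  obtain ⟨n, r, hn, hr, hnr⟩ := hd
  intro H V _ _ _ ρ b q a D X w L π hL hπ hX C
  have h1 := rank_le C hr hK hL hπ hX
  have h2 := le_dim C hn hπ
  have h3 := C.six
  omega

/-- Two-rank of the automorphism group at most 4. -/
theorem RowEH3.of_rk {K : Type v} [Group K] [Nontrivial K] (hK : center K = ⊥) (hr : RK K 4) : RowEH3.{u} K :=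
  RowEH3.of_dead hK (Dead2.of_rk hr)

/-- The tight case: `2w = n`. -/
theorem eq_of_tight {K : Type v} [Group K] {H V : Type u} [Group H] [AddCommGroup V] [Module (ZMod 2) V]
    {ρ : H →* (V ≃ₗ[ZMod 2] V)} {b : LinearMap.BilinForm (ZMod 2) V} {q : V → ZMod 2} {a : V}
    {D : Submodule (ZMod 2) V} {X : Subgroup H} {w : ℕ} {L : Subgroup H} {π : L →* K}
    (C : Cfg ρ b q a D X w) {n r : ℕ} (hn : n = 12 ∨ LBs.{u} K n) (hr : RK K r) (hnr : n = 2 * r + 2)
    [Nontrivial K] (hK : center K = ⊥) (hL : L.Normal) (hπ : OddCover π)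
    (hX : X ⊓ centralizer (L : Set H) = ⊥) : w = r + 1 := by
  have h1 := rank_le C hr hK hL hπ hX
  have h3 := C.six
  rcases hn with hn | hn
  · omega
  · have h2 := le_dim C hn hπ
    omega

/-! ### `Kill2` gives the row -/

section kill

variable {H V : Type*} [Group H] [AddCommGroup V] [Module (ZMod 2) V]
  {ρ : H →* (V ≃ₗ[ZMod 2] V)} {b : LinearMap.BilinForm (ZMod 2) V} {q : V → ZMod 2} {a : V}
  {D : Submodule (ZMod 2) V} {X : Subgroup H} {w : ℕ}

/-- a vector perpendicular to `a^⊥` is `0` or `a` -/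
theorem Cfg.eq_of_perp_a (C : Cfg ρ b q a D X w) {v : V} (h : ∀ u, b a u = 0 → b v u = 0) : v = 0 ∨ v = a := by
  obtain ⟨c, hc⟩ := C.exists_off
  rcases zmod_two (b v c) with h5 | h5
  · left
    apply C.nondeg
    intro u
    rcases zmod_two (b a u) with h6 | h6
    · exact h u h6
    · have h7 := h (u + c) (by rw [map_add, h6, hc]; decide)
      rw [map_add, h5, add_zero] at h7
      exact h7
  · right
    rw [← C.add_eq_zero]
    apply C.nondeg
    intro u
    rw [map_add, LinearMap.add_apply]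
    rcases zmod_two (b a u) with h6 | h6
    · rw [h u h6, h6, add_zero]
    · have h7 := h (u + c) (by rw [map_add, h6, hc]; decide)
      rw [map_add, h5] at h7
      rw [h6]
      exact h7

/-- **`C_V(X) = {0, a}`** -/
theorem Cfg.fixed_X (C : Cfg ρ b q a D X w) {v : V} (h : ∀ x ∈ X, ρ x v = v) : v = 0 ∨ v = a := by
  obtain ⟨c, hc⟩ := C.exists_off
  have hX1 : ∃ x ∈ X, x ≠ 1 := by
    by_contra hcon
    push Not at hcon
    have h1 : X = ⊥ := by
      rw [eq_bot_iff]
      exact fun x hx => mem_bot.mpr (hcon x hx)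
    have h2 := C.card_X
    have h3 := C.six
    rw [h1, Subgroup.card_bot] at h2
    have h4 : 1 < 2 ^ (w - 1) := Nat.one_lt_two_pow (by omega)
    omega
  rcases zmod_two (b a v) with hv | hv
  · obtain ⟨y, hy, hyd⟩ := C.exists_sig hc hv
    by_cases hy1 : y = 1
    · have hvD : v ∈ D := by
        rw [hy1] at hyd
        have : Cfg.sig ρ c 1 = 0 := by
          unfold Cfg.sig
          rw [C.ρ_one, C.add_self]
        rwa [this, add_zero] at hyd
      refine C.eq_of_perp_a fun u hu => ?_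
      obtain ⟨t, ht, htd⟩ := C.exists_sig hc hu
      have h1 := C.X_D_eq hc ht hvD
      rw [h t ht] at h1
      have h2 : b v (Cfg.sig ρ c t) = 0 := by
        rcases zmod_two (b v (Cfg.sig ρ c t)) with h3 | h3
        · exact h3
        · rw [h3, one_smul] at h1
          exact absurd (left_eq_add.mp h1) C.a_ne
      have h4 := C.b_D hvD htd
      rw [map_add, h2, add_zero] at h4
      exact h4
    · exfalso
      obtain ⟨x, hx, t, ht, h1⟩ := C.exists_tri hc hy hy1
      apply h1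
      have h2 : Cfg.del ρ c y x = ρ x (v + Cfg.sig ρ c y) + (v + Cfg.sig ρ c y) := by
        unfold Cfg.del
        rw [map_add, h x hx]
        have := C.add_self v
        have e : v + ρ x (Cfg.sig ρ c y) + (v + Cfg.sig ρ c y) =
            (v + v) + (ρ x (Cfg.sig ρ c y) + Cfg.sig ρ c y) := by abel
        rw [e, this, zero_add]
      unfold Cfg.tri
      rw [h2]
      rcases C.X_D x hx _ hyd with h3 | h3 <;> rw [h3]
      · rw [C.add_self, map_zero, LinearMap.zero_apply]
      · have e : v + Cfg.sig ρ c y + a + (v + Cfg.sig ρ c y) = (v + Cfg.sig ρ c y) + (v + Cfg.sig ρ c y) + a := by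
          abel
        rw [e, C.add_self, zero_add, C.b_a_sig ht]
  · exfalso
    obtain ⟨x, hx, hx1⟩ := hX1
    apply hx1
    apply C.X_semi x hx v hv
    rw [h x hx, C.add_self]
    exact D.zero_mem

/-- **`Stab(a)` contains a Sylow 2-subgroup.** -/
theorem Cfg.exists_sylow (C : Cfg ρ b q a D X w) : ∃ S : Sylow 2 H, X ≤ (S : Subgroup H) ∧ ∀ s ∈ S, ρ s a = a := by
  have := C.finite_H
  have := C.finite_V
  have hp : Fact (Nat.Prime 2) := ⟨Nat.prime_two⟩
  have hX : IsPGroup 2 X := fun x => ⟨1, Subtype.ext (by rw [pow_one, pow_two]; exact C.X_sq _ x.2)⟩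
  obtain ⟨S, hS⟩ := hX.exists_le_sylow
  refine ⟨S, hS, ?_⟩
  -- the fixed points of `S` on `V`
  let _ : MulAction S V :=
    { smul := fun s v => ρ s v
      one_smul := fun v => C.ρ_one v
      mul_smul := fun g h v => C.ρ_mul _ _ v }
  have hsm : ∀ (s : S) (v : V), s • v = ρ s v := fun _ _ => rfl
  have h1 : Nat.card V ≡ Nat.card (MulAction.fixedPoints S V) [MOD 2] := S.isPGroup'.card_modEq_card_fixedPoints V
  have h2 : (0 : V) ∈ MulAction.fixedPoints S V := fun s => by rw [hsm, map_zero]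
  have h3 : 1 < Nat.card (MulAction.fixedPoints S V) := by
    have h4 : Nat.card (MulAction.fixedPoints S V) ≠ 0 := by
      have : Nonempty (MulAction.fixedPoints S V) := ⟨⟨0, h2⟩⟩
      exact Nat.card_pos.ne'
    have h5 : Nat.card (MulAction.fixedPoints S V) % 2 = 0 := by
      rw [← h1, C.card_V]
      have := C.six
      exact Nat.mod_eq_zero_of_dvd (dvd_pow_self 2 (by omega))
    omega
  have hnt := Finite.one_lt_card_iff_nontrivial.mp h3
  obtain ⟨v, hv⟩ := exists_ne (⟨0, h2⟩ : MulAction.fixedPoints S V)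
  have hv0 : (v : V) ≠ 0 := fun h => hv (Subtype.ext h)
  have hva : (v : V) = a := (C.fixed_X fun x hx => v.2 ⟨x, hS hx⟩).resolve_left hv0
  intro s hs
  rw [← hva]
  exact v.2 ⟨s, hs⟩

end kill

theorem RowEH3.of_kill {K : Type v} [Group K] (h : Kill2.{u} K) : RowEH3.{u} K := by
  intro H V _ _ _ ρ b q a D X w L π hL hπ hX C
  have := C.finite_H
  have := C.finite_V
  refine h H (Multiplicative V) (act ρ) (fun u v => b (Multiplicative.toAdd u) (Multiplicative.toAdd v)) L X
    (Multiplicative.ofAdd a) π hπ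
    { inj := ?_
      form :=
        { add_left := fun x y z => by rw [toAdd_mul, map_add, LinearMap.add_apply]
          add_right := fun x y z => by rw [toAdd_mul, map_add]
          alt := fun x => C.b_self _
          nondeg := fun x hx => C.nondeg _ fun u => hx (Multiplicative.ofAdd u) }
      inv := fun g x y => C.b_inv _ _ _
      two := fun x => by
        rw [pow_two]
        exact C.add_self (Multiplicative.toAdd x)
      irr := ?_
      twelve := ?_
      normal := hL
      a_ne := fun h => C.a_ne h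
      X_two := fun x hx => by rw [pow_two]; exact C.X_sq x hx
      X_fix := fun x hx => C.X_a hx
      X_norm := fun g hg x hx => C.X_norm g hg x hx
      syl := by
        obtain ⟨S, -, hS⟩ := C.exists_sylow
        exact ⟨S, fun s hs => hS s hs⟩
      cent := hX
      card_le := ?_ }
  · intro g g' hgg
    apply C.ext
    intro v
    exact DFunLike.congr_fun hgg (Multiplicative.ofAdd v)
  · intro W hW
    let W' : Submodule (ZMod 2) V :=
      { carrier := {v | Multiplicative.ofAdd v ∈ W}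
        add_mem' := fun {u v} hu hv => W.mul_mem hu hv
        zero_mem' := W.one_mem
        smul_mem' := by
          intro r v hv
          rcases zmod_two r with rfl | rfl
          · rw [zero_smul]
            exact W.one_mem
          · rw [one_smul]
            exact hv }
    rcases C.irr W' (fun g v hv => hW g _ hv) with h1 | h1
    · left
      rw [eq_bot_iff]
      intro v hv
      have h2 : Multiplicative.toAdd v ∈ W' := hv
      rw [h1] at h2
      exact h2
    · right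
      rw [eq_top_iff]
      intro v _
      have h2 : Multiplicative.toAdd v ∈ W' := by rw [h1]; trivial
      exact h2
  · have h1 : Nat.card (Multiplicative V) = 2 ^ (2 * w) := C.card_V
    rw [h1]
    have := C.six
    exact Nat.pow_le_pow_right two_pos (by omega)
  · have h1 : Nat.card (Multiplicative V) = 2 ^ (2 * w) := C.card_V
    rw [h1, C.card_X]
    have := C.six
    have h2 : 4 * (2 ^ (w - 1)) ^ 2 = 2 ^ (2 * w) := by
      rw [← pow_mul, show (4 : ℕ) = 2 ^ 2 by norm_num, ← pow_add]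
      congr 1
      omega
    exact h2.ge

end Cfsg.Agent.Omega.EH3
end

-- part: Omega/KFacts
section
set_option linter.all false

/-!
# K-facts of project OMEGA: one named proposition per family row

Owner: helper333.  `Rows2` : the rows of TABLE 2F (`q = 2`, width at least 6, EH3); `RowsZS` : the rows of `(ZS)`
(`q ≥ 4`, NODE LIE).  A row is closed by a theorem `Cfsg.Agent.Omega.TwoF.<Row>.row : <the field's type>`; this file
only collects.  `Rows2.main` is the consumer's form: a known simple group is of Lie type in characteristic 2, or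
excluded, or one of the four groups `M22`, `U4(3)`, `Co2`, `Co1` (shadows and `J4`), with its exact numbers.
-/

set_option autoImplicit false

namespace Cfsg.Agent.Omega.KFacts

open Subgroup Cfsg Cfsg.Agent.Omega.TwoF Cfsg.Agent.Omega.EH3

universe u

/-- All groups with the property `P` are excluded in EH3 (numerical form `Kill2`). -/
def KillRow (P : ∀ (K : Type u) [Group K], Prop) : Prop := ∀ (K : Type u) [Group K], P K → Kill2.{u} K

/-- All groups with the property `P` are excluded in EH3. -/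
def Row (P : ∀ (K : Type u) [Group K], Prop) : Prop := ∀ (K : Type u) [Group K], P K → RowEH3.{u} K

theorem KillRow.toRow {P : ∀ (K : Type u) [Group K], Prop} (h : KillRow.{u} P) : Row.{u} P :=
  fun K _ hK => RowEH3.of_kill (h K hK)

/-- `dim V = n` and `|X| = 2^r` are forced: `n = 2r + 2` (for `n = 12` the lower bound is that of `Conf2`). -/
structure Tight (K : Type u) [Group K] (n r : ℕ) : Prop where
  lb : n = 12 ∨ LBs.{u} K n
  rk : RK K r
  eq : n = 2 * r + 2

/-- `U4(3)`. -/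
def IsUFourThree (K : Type u) [Group K] : Prop :=
  ∃ (F : Type) (_ : Field F) (_ : Fintype F), Fintype.card F = 9 ∧ Nonempty (K ≃* PSU 4 F 3)

/-- Lie type in odd characteristic, family `P p`. -/
def OddChar (P : ∀ (_ : ℕ) (K : Type u) [Group K], Prop) (K : Type u) [Group K] : Prop :=
  ∃ p : ℕ, p.Prime ∧ p ≠ 2 ∧ P p K

/-- **The rows of TABLE 2F**, `q = 2`. -/
structure Rows2 : Prop where
  -- alternating groups (owner helper809)
  alt : ∀ n : ℕ, 5 ≤ n → n ≠ 8 → RowEH3.{u} (alternatingGroup (Fin n))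
  -- Lie type in odd characteristic
  psl : Row.{u} fun K _ => OddChar @IsPSLChar K ∧ ¬ IsLieTypeChar 2 K
  psp : Row.{u} fun K _ => OddChar @IsPSpChar K ∧ ¬ IsLieTypeChar 2 K
  psu : Row.{u} fun K _ => OddChar @IsPSUChar K ∧ ¬ IsLieTypeChar 2 K ∧ ¬ IsUFourThree K
  u43 : ∀ (K : Type u) [Group K], IsUFourThree K → Tight K 12 5
  omOdd : Row.{u} fun K _ => OddChar @IsPOmegaOddChar K
  omPlus : Row.{u} fun K _ => OddChar @IsPOmegaPlusChar K
  omMinus : Row.{u} fun K _ => OddChar @IsPOmegaMinusChar K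
  chev : Row.{u} fun K _ => OddChar @IsExceptionalChevChar K ∧ ¬ IsLieTypeChar 2 K
  twisted : Row.{u} fun K _ => OddChar @IsTwistedE6D4Char K
  ree : Row.{u} @Lie.IsoRee
  tits : Row.{u} @Lie.IsoTits
  -- sporadic groups
  m11 : Row.{u} @Spor.IsoM11
  m12 : Row.{u} @Spor.IsoM12
  m22 : ∀ (K : Type u) [Group K], Spor.IsoM22 K → Tight K 12 5
  m23 : Row.{u} @Spor.IsoM23
  m24 : Row.{u} @Spor.IsoM24
  j1 : Row.{u} @Spor.IsoJ1
  j2 : Row.{u} @Spor.IsoJ2
  j3 : Row.{u} @Spor.IsoJ3
  j4 : Row.{u} @Spor.IsoJ4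
  co1 : ∀ (K : Type u) [Group K], Spor.IsoCo1 K → Tight K 24 11
  co2 : ∀ (K : Type u) [Group K], Spor.IsoCo2 K → Tight K 22 10
  co3 : Row.{u} @Spor.IsoCo3
  mcl : Row.{u} @Spor.IsoMcL
  hs : Row.{u} @Spor.IsoHS
  suz : Row.{u} @Spor.IsoSuz
  he : Row.{u} @Spor.IsoHe
  ru : Row.{u} @Spor.IsoRu
  on : Row.{u} @Spor.IsoON
  ly : Row.{u} @Spor.IsoLy
  fi22 : Row.{u} @Spor.IsoFi22
  fi23 : Row.{u} @Spor.IsoFi23
  fi24 : Row.{u} @Spor.IsoFi24'
  hn : Row.{u} @Spor.IsoHN
  th : Row.{u} @Spor.IsoTh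
  b : Row.{u} @Spor.IsoB
  m : Row.{u} @Spor.IsoM

/-- The outcomes of TABLE 2F for `q = 2`. -/
def Out2 (K : Type u) [Group K] : Prop :=
  IsLieTypeChar 2 K ∨ RowEH3.{u} K ∨ (IsUFourThree K ∧ Tight K 12 5) ∨ (Spor.IsoM22 K ∧ Tight K 12 5) ∨
    (Spor.IsoCo2 K ∧ Tight K 22 10) ∨ (Spor.IsoCo1 K ∧ Tight K 24 11)

/-! ### The list of known simple groups by characteristic -/

section List

variable {K : Type u} [Group K]

theorem exists_char (F : Type) [Field F] [Fintype F] : ∃ p : ℕ, p.Prime ∧ CharP F p := by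
  obtain ⟨p, hp⟩ := CharP.exists F
  have := CharP.char_is_prime F p
  exact ⟨p, this, hp⟩

theorem of_psl (h : IsPSL K) : IsLieTypeChar 2 K ∨ OddChar @IsPSLChar K := by
  obtain ⟨F, _, _, n, h1, h2, h3⟩ := h
  obtain ⟨p, hp, hF⟩ := exists_char F
  by_cases h4 : p = 2
  · subst h4
    exact Or.inl (Or.inl ⟨F, _, _, hF, n, h1, h2, h3⟩)
  · exact Or.inr ⟨p, hp, h4, F, _, _, hF, n, h1, h2, h3⟩

theorem of_psp (h : IsPSp K) : IsLieTypeChar 2 K ∨ OddChar @IsPSpChar K := by
  obtain ⟨F, _, _, n, h1, h2, h3⟩ := h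
  obtain ⟨p, hp, hF⟩ := exists_char F
  by_cases h4 : p = 2
  · subst h4
    exact Or.inl (Or.inr (Or.inl ⟨F, _, _, hF, n, h1, h2, h3⟩))
  · exact Or.inr ⟨p, hp, h4, F, _, _, hF, n, h1, h2, h3⟩

theorem of_psu (h : IsPSU K) : IsLieTypeChar 2 K ∨ OddChar @IsPSUChar K := by
  obtain ⟨F, _, _, n, q, h1, h2, h3, h5⟩ := h
  obtain ⟨p, hp, hF⟩ := exists_char F
  by_cases h4 : p = 2
  · subst h4
    exact Or.inl (Or.inr (Or.inr (Or.inl ⟨F, _, _, hF, n, q, h1, h2, h3, h5⟩)))
  · exact Or.inr ⟨p, hp, h4, F, _, _, hF, n, q, h1, h2, h3, h5⟩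

theorem of_omOdd (h : IsPOmegaOdd K) : IsLieTypeChar 2 K ∨ OddChar @IsPOmegaOddChar K := by
  obtain ⟨F, _, _, n, h1, h2, h3⟩ := h
  obtain ⟨p, hp, hF⟩ := exists_char F
  by_cases h4 : p = 2
  · subst h4
    exact Or.inl (Or.inr (Or.inr (Or.inr (Or.inl ⟨F, _, _, hF, n, h1, h2, h3⟩))))
  · exact Or.inr ⟨p, hp, h4, F, _, _, hF, n, h1, h2, h3⟩

theorem of_omPlus (h : IsPOmegaPlus K) : IsLieTypeChar 2 K ∨ OddChar @IsPOmegaPlusChar K := by
  obtain ⟨F, iF, iT, n, h1, h3⟩ := h
  obtain ⟨p, hp, hF⟩ := exists_char F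
  have key : IsPOmegaPlusChar p K := ⟨F, iF, iT, hF, n, h1, h3⟩
  by_cases h4 : p = 2
  · subst h4
    exact Or.inl (Or.inr (Or.inr (Or.inr (Or.inr (Or.inl key)))))
  · exact Or.inr ⟨p, hp, h4, key⟩

theorem of_omMinus (h : IsPOmegaMinus K) : IsLieTypeChar 2 K ∨ OddChar @IsPOmegaMinusChar K := by
  obtain ⟨F, iF, iT, n, a, b, h1, h2, h3⟩ := h
  obtain ⟨p, hp, hF⟩ := exists_char F
  have key : IsPOmegaMinusChar p K := ⟨F, iF, iT, hF, n, a, b, h1, h2, h3⟩
  by_cases h4 : p = 2
  · subst h4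
    exact Or.inl (Or.inr (Or.inr (Or.inr (Or.inr (Or.inr (Or.inl key))))))
  · exact Or.inr ⟨p, hp, h4, key⟩

theorem of_chev (h : Lie.IsoChevG2 K ∨ Lie.IsoF4 K ∨ Lie.IsoChevE6 K ∨ Lie.IsoE7 K ∨ Lie.IsoE8 K) :
    IsLieTypeChar 2 K ∨ OddChar @IsExceptionalChevChar K := by
  have key : ∃ p : ℕ, p.Prime ∧ IsExceptionalChevChar p K := by
    rcases h with ⟨F, iF, iT, h1, h2⟩ | ⟨F, iF, iT, h⟩ | ⟨F, iF, iT, h⟩ | ⟨F, iF, iT, h⟩ | ⟨F, iF, iT, h⟩ <;>
      obtain ⟨p, hp, hF⟩ := exists_char F <;> refine ⟨p, hp, F, iF, iT, hF, ?_⟩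
    · exact Or.inl ⟨h1, h2⟩
    · exact Or.inr (Or.inl h)
    · exact Or.inr (Or.inr (Or.inl h))
    · exact Or.inr (Or.inr (Or.inr (Or.inl h)))
    · exact Or.inr (Or.inr (Or.inr (Or.inr h)))
  obtain ⟨p, hp, key⟩ := key
  by_cases h4 : p = 2
  · subst h4
    exact Or.inl (Or.inr (Or.inr (Or.inr (Or.inr (Or.inr (Or.inr (Or.inl key)))))))
  · exact Or.inr ⟨p, hp, h4, key⟩

theorem of_twisted (h : Lie.Iso2E6 K ∨ Lie.Iso3D4 K) :
    IsLieTypeChar 2 K ∨ OddChar @IsTwistedE6D4Char K := by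
  have key : ∃ p : ℕ, p.Prime ∧ IsTwistedE6D4Char p K := by
    rcases h with ⟨F, iF, iT, q, hq, h1, h2⟩ | ⟨F, iF, iT, q, hq, h1, h2⟩ <;>
      obtain ⟨p, hp, hF⟩ := exists_char F <;> refine ⟨p, hp, F, iF, iT, hF, q, hq, ?_⟩
    · exact Or.inl ⟨h1, h2⟩
    · exact Or.inr ⟨h1, h2⟩
  obtain ⟨p, hp, key⟩ := key
  by_cases h4 : p = 2
  · subst h4
    exact Or.inl (Or.inr (Or.inr (Or.inr (Or.inr (Or.inr (Or.inr (Or.inr (Or.inl key))))))))
  · exact Or.inr ⟨p, hp, h4, key⟩

end List

/-- **TABLE 2F for `q = 2`**, collected. -/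
theorem Rows2.main (R : Rows2.{u}) {K : Type u} [Group K] (h : IsKnownSimple' K) (hc : ¬ IsPrimeCyclic K) :
    Out2 K := by
  by_cases h2 : IsLieTypeChar 2 K
  · exact Or.inl h2
  refine Or.inr ?_
  have hn := fun (P : Prop) (hP : IsLieTypeChar 2 K ∨ P) => hP.resolve_left h2
  rcases h with h | ⟨n, h5, ⟨e⟩⟩ | h | h | h | h | h | h | h | h
  · exact absurd h hc
  · refine Or.inl ?_
    by_cases h8 : n = 8
    · exfalso
      subst h8
      apply h2
      obtain ⟨e'⟩ := Cfsg.Agent.S0256.result (F := ZMod 2) (by simp)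
      exact Or.inl ⟨ZMod 2, inferInstance, inferInstance, inferInstance, 4, by norm_num, by norm_num,
        ⟨e.trans e'.symm⟩⟩
    · exact (R.alt n h5 h8).equiv e
  · exact Or.inl (R.psl K ⟨hn _ (of_psl h), h2⟩)
  · exact Or.inl (R.psp K ⟨hn _ (of_psp h), h2⟩)
  · by_cases h3 : IsUFourThree K
    · exact Or.inr (Or.inl ⟨h3, R.u43 K h3⟩)
    · exact Or.inl (R.psu K ⟨hn _ (of_psu h), h2, h3⟩)
  · exact Or.inl (R.omOdd K (hn _ (of_omOdd h)))
  · exact Or.inl (R.omPlus K (hn _ (of_omPlus h)))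
  · exact Or.inl (R.omMinus K (hn _ (of_omMinus h)))
  · unfold IsExceptionalLieType at h
    by_cases h3 : Lie.IsoChevG2 K ∨ Lie.IsoF4 K ∨ Lie.IsoChevE6 K ∨ Lie.IsoE7 K ∨ Lie.IsoE8 K
    · exact Or.inl (R.chev K ⟨hn _ (of_chev h3), h2⟩)
    by_cases h4 : Lie.Iso2E6 K ∨ Lie.Iso3D4 K
    · exact Or.inl (R.twisted K (hn _ (of_twisted h4)))
    by_cases h5 : Lie.IsoSuzuki K
    · exact absurd (Or.inr (Or.inr (Or.inr (Or.inr (Or.inr (Or.inr (Or.inr (Or.inr (Or.inl ⟨rfl, h5⟩)))))))))  h2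
    by_cases h6 : Lie.Iso2F4 K
    · exact absurd (Or.inr (Or.inr (Or.inr (Or.inr (Or.inr (Or.inr (Or.inr (Or.inr (Or.inr
        (Or.inl ⟨rfl, h6⟩)))))))))) h2
    by_cases h7 : Lie.IsoRee K
    · exact Or.inl (R.ree K h7)
    by_cases h8 : Lie.IsoTits K
    · exact Or.inl (R.tits K h8)
    exfalso
    tauto
  · unfold IsSporadicGroup at h
    rcases h with h | h | h | h | h | h | h | h | h | h | h | h | h | h | h | h | h | h | h | h | h | h | h | h | h | h
    · exact Or.inl (R.m11 K h)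
    · exact Or.inl (R.m12 K h)
    · exact Or.inr (Or.inr (Or.inl ⟨h, R.m22 K h⟩))
    · exact Or.inl (R.m23 K h)
    · exact Or.inl (R.m24 K h)
    · exact Or.inl (R.j1 K h)
    · exact Or.inl (R.j2 K h)
    · exact Or.inl (R.j3 K h)
    · exact Or.inl (R.j4 K h)
    · exact Or.inr (Or.inr (Or.inr (Or.inr ⟨h, R.co1 K h⟩)))
    · exact Or.inr (Or.inr (Or.inr (Or.inl ⟨h, R.co2 K h⟩)))
    · exact Or.inl (R.co3 K h)
    · exact Or.inl (R.mcl K h)
    · exact Or.inl (R.hs K h)
    · exact Or.inl (R.suz K h)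
    · exact Or.inl (R.he K h)
    · exact Or.inl (R.ru K h)
    · exact Or.inl (R.on K h)
    · exact Or.inl (R.ly K h)
    · exact Or.inl (R.fi22 K h)
    · exact Or.inl (R.fi23 K h)
    · exact Or.inl (R.fi24 K h)
    · exact Or.inl (R.hn K h)
    · exact Or.inl (R.th K h)
    · exact Or.inl (R.b K h)
    · exact Or.inl (R.m K h)

end Cfsg.Agent.Omega.KFacts
end

-- part: Omega/TwoF/RowTool
section
set_option linter.all false
open scoped Cfsg.Agent.FastGrp

/-!
# TABLE 2F: from the row columns to `Dead2` (helper416)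

* `toLB` : `Heis.LB` gives `TwoF.LB`;
* `toRK` : `Rk.RK` gives `TwoF.RK` (trivial centre);
* `factorization_mulAut` : `|Out K|₂ ≤ 2` bounds the 2-part of `|Aut K|`.
-/

set_option autoImplicit false

namespace Cfsg.Agent.Omega.TwoF.RowTool

open Subgroup

universe u v

theorem toLB {K : Type v} [Group K] {m : ℕ} (h : Cfsg.Agent.Omega.Lie.Heis.LB.{v, u, u} K m) : LB.{u} K m :=
  fun L _ _ π hπ V _ _ φ h2 h1 => h L π hπ.surj hπ.cent hπ.odd hπ.perf V (fun g => ⟨1, by rw [pow_one]; exact h2 g⟩) φ h1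

theorem conj_injective {K : Type*} [Group K] (hc : center K = ⊥) :
    Function.Injective (MulAut.conj : K →* MulAut K) := by
  rw [← MonoidHom.ker_eq_bot_iff, eq_bot_iff, ← hc]
  intro g hg
  rw [mem_center_iff]
  intro x
  have h2 := congrArg (fun φ : MulAut K => φ x) (MonoidHom.mem_ker.1 hg)
  simp only [MulAut.conj_apply, MulAut.one_apply] at h2
  exact (mul_inv_eq_iff_eq_mul.1 h2).symm

theorem toRK {K : Type u} [Group K] [Finite K] (hc : center K = ⊥) {a : ℕ} (h : Rk.RK.{u} K a) : RK K a := by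
  intro A hA
  have hi := conj_injective hc
  have hn : ((MulAut.conj : K →* MulAut K).range).Normal := by
    refine ⟨?_⟩
    rintro _ ⟨x, rfl⟩ α
    refine ⟨α x, ?_⟩
    ext y
    simp [MulAut.conj_apply]
  have hcen : centralizer (((MulAut.conj : K →* MulAut K).range : Subgroup (MulAut K)) : Set (MulAut K)) = ⊥ := by
    rw [eq_bot_iff]
    intro α hα
    rw [mem_centralizer_iff] at hα
    rw [mem_bot]
    ext x
    rw [MulAut.one_apply]
    apply hi
    have h1 := hα (MulAut.conj x) ⟨x, rfl⟩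
    have h2 : MulAut.conj (α x) = α * MulAut.conj x * α⁻¹ := by
      ext y
      simp [MulAut.conj_apply]
    rw [h2, ← h1, mul_inv_cancel_right]
  exact h (MulAut K) (MulAut.conj : K →* MulAut K).range ⟨(MonoidHom.ofInjective hi).symm⟩ hcen A
    (fun x hx => by rw [← pow_two]; exact hA x hx)

/-- `|Out K|₂ ≤ 2` -/
theorem factorization_mulAut {K : Type*} [Group K] [Finite K] (hc : center K = ⊥)
    (hout : ¬ 4 ∣ (MulAut.conj : K →* MulAut K).range.index) {e : ℕ} (he : (Nat.card K).factorization 2 ≤ e) :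
    (Nat.card (MulAut K)).factorization 2 ≤ e + 1 := by
  rw [Rk.card_mulAut hc rfl]
  have h0 : (MulAut.conj : K →* MulAut K).range.index ≠ 0 := index_ne_zero_of_finite
  rw [Nat.factorization_mul h0 Nat.card_pos.ne', Finsupp.add_apply]
  have h1 : (MulAut.conj : K →* MulAut K).range.index.factorization 2 ≤ 1 := by
    by_contra hcon
    apply hout
    exact ((Nat.prime_two.pow_dvd_iff_le_factorization h0).2 (by omega : 2 ≤ _))
  omega

theorem dead {K : Type v} [Group K] [Finite K] (hc : center K = ⊥) {m a : ℕ}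
    (h : Cfsg.Agent.Omega.Lie.Heis.LB.{v, u, u} K m) (hr : Rk.RK.{v} K a) (hma : 2 * a + 2 < m) : Dead2.{u} K :=
  Dead2.of_lb (toLB h) (toRK hc hr) hma

end Cfsg.Agent.Omega.TwoF.RowTool
end
end
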